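import Cfsg.Agent.FT.BG1c

/-! Section 1 of the local analysis: elementary properties of solvable groups, together with the
basic facts on semiregular actions and Frobenius groups.  The results are proved in `FT.BG1a`
(chief factors, coprime action), `FT.BG1b` (results attached to a prime `p`) and `FT.BG1c`
(`Z`-groups, semiregular and prime action, Frobenius groups).

Already available elsewhere: 1.5 (a)-(c) in `FT.Hall`; 1.5 (d), 1.14 `H5.map_inf_centralizer`,
`H5.im_inf_centralizer`, `H5.im_normalizer`; 1.6 (a)-(c) `H5.commutator_sup_centralizer`,
`H5.commutator_commutator_eq`, `H5.le_centralizer_of_commutator_commutator_eq_bot`;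
1.9 (one step) `H5.le_centralizer_of_commutator_le`; 1.16 `H5.le_of_cocyclic`,
`H5.le_of_centralizer_singleton`; 1.22 `H7.exists_invariant_card_eq`.
The Frattini subgroup of a `p`-group `P` is `H7.phiS p P`. -/
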