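import Cfsg.Agent.FT.BG12d

/-! Section 12 of the local analysis: the subgroup `E`.
The proofs are in `FT.BG12a` (12.1 to 12.6), `FT.BG12b` (12.7 to 12.11), `FT.BG12c` (12.12) and
`FT.BG12d` (12.13 to 12.19); auxiliary results live in the namespace `FT.U12`. -/
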