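import Cfsg.Agent.FT.BG15d

/-! Bender-Glauberman, section 15: the subgroup `M_F`. The proofs are in `BG15a` to `BG15d`. -/
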