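import Cfsg.Agent.FT.BG2b

/-! Section 2 of the local analysis: general results on representations, stated for actions inside
one ambient group. The proofs are in `BG2a` and `BG2b`. -/
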