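import Cfsg.Agent.FT.BG3b

/-! Section 3 of the local analysis: actions of Frobenius groups and related results.
The theorems on representations are stated for coprime actions on solvable subgroups.
Peterfalvi 9.1 is `Frobenius_Wielandt_fixpoint` in `FT.Wielandt`.
The proofs are in `BG3a` and `BG3b`. -/
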