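import Cfsg.Agent.FT.BG3
import Cfsg.Agent.FT.BG4d

/-! Section 4 of the local analysis: `p`-groups of small rank.  The basic facts on ranks, on `Ω₁`
and on elementary abelian subgroups are in `BG4a`, 4.1 to 4.11 and 4.13 to 4.15 in `BG4b`,
4.12 and 4.16 in `BG4c`, 4.17 to 4.20 in `BG4d`. -/
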