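import Cfsg.Agent.FT.PF6c

/-!
Peterfalvi, section 6: some coherence theorems (proved in `PF6a`, `PF6b`, `PF6c`).
-/
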