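import Cfsg.Agent.FT.PF12d

/-! Peterfalvi, section 12: see `FT/PF12a.lean` - `FT/PF12d.lean`. -/
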