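import Cfsg.Agent.FT.PF13e

/-! Peterfalvi, section 13: see `FT/PF13a.lean` - `FT/PF13e.lean`. Throughout `P = MF S`,
`p = |W₂|`, `q = |W₁|`; by (13.12) `C_U(P) = 1`, so that `u = |U|`. -/
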